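import Mathlib
import Groth.Agent.Lib.Helper1.Dv12
import Groth.Agent.Lib.Helper1.Dv6
import Groth.Agent.Lib.Helper1.Dv9
import Groth.Agent.Lib.Helper1.Dv21
import Groth.Agent.Lib.Helper1.TwistAmple
import Groth.Agent.Lib.Helper1.GammaZ

/-!
# Injective quasi-coherent modules on a Noetherian scheme are flasque (helper5)

Uses Helper1's Deligne formula (surjectivity): a section over an open `U` of a quasi-coherent
module `F` is induced by a morphism `I^n ⟶ F`, `I` an ideal cutting out the complement of `U`.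
-/
set_option autoImplicit false
set_option linter.unusedSectionVars false
set_option linter.unusedVariables false
universe u
open CategoryTheory CategoryTheory.Limits AlgebraicGeometry TopologicalSpace Opposite

namespace Groth.Agent.Lib.Helper5.FlasqueQC

open Groth.Agent.Helper1.QcCech Groth.Agent.Helper1.QcExt Groth.Agent.Helper1
  Groth.Agent.Helper1.Dv Groth.Agent.Helper1.TwistAmple

variable {X : Scheme.{u}}

/-- sections over an open of a quasi-coherent module with the extension property along the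
inclusions `I^n ⟶ O_X` extend to global sections -/
theorem exists_global_section [IsNoetherian X] (F : X.Modules) (hF : Coh.IsQCoh F)
    (hinj : ∀ (n : ℕ) (I : X.IdealSheafData)
      (ψ : (Dual3.idealMul (I ^ n)).obj (Coh.structureModule X) ⟶ F),
      ∃ t : Coh.structureModule X ⟶ F,
        Dual3.idealMulι (I ^ n) (Coh.structureModule X) ≫ t = ψ)
    (U : X.Opens) (s : Γ(F, U)) : ∃ τ : Γ(F, ⊤), res F le_top τ = s := by
  let O := Coh.structureModule X
  have hO : Coh.IsCoh O := isCoh_structureModule X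
  haveI : O.IsQuasicoherent := hO.1
  let j := U.ι
  let R := Scheme.Modules.restrictFunctor j
  let adj := Scheme.Modules.restrictAdjunction j
  have hU'' : j ''ᵁ (j ⁻¹ᵁ (⊤ : X.Opens)) = U := by
    rw [Scheme.Hom.image_preimage_eq_opensRange_inf, Scheme.Opens.opensRange_ι]
    exact inf_top_eq U
  have hle : j ''ᵁ (j ⁻¹ᵁ (⊤ : X.Opens)) ≤ U := le_of_eq hU''
  let σ : Γ((Scheme.Modules.pushforward j).obj (R.obj F), ⊤) := res F hle s
  let φ : R.obj O ⟶ R.obj F := (adj.homEquiv O (R.obj F)).symm (homOfSec _ σ)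
  let I := complIdeal U
  obtain ⟨n, ψ, hψ⟩ := deligne_surjective F O hF hO I U (complIdeal_support U) φ
  obtain ⟨t, ht⟩ := hinj n I ψ
  haveI : IsIso (R.map (Dual3.idealMulι (I ^ n) O)) := isIso_restrict_idealMulι U n O
  have h1 : R.map t = φ := by
    rw [← cancel_epi (R.map (Dual3.idealMulι (I ^ n) O)), ← R.map_comp, ht, hψ]
  have h2 : t ≫ adj.unit.app F = homOfSec _ σ := by
    have h3 := congrArg (adj.homEquiv O (R.obj F)) h1
    rw [Equiv.apply_symm_apply, Adjunction.homEquiv_unit] at h3
    rw [← h3]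
    exact adj.unit.naturality t
  refine ⟨t.app ⊤ (1 : Γ(X, ⊤)), ?_⟩
  have h4 : (adj.unit.app F).app ⊤ (t.app ⊤ (1 : Γ(X, ⊤))) =
      (homOfSec _ σ).app ⊤ (1 : Γ(X, ⊤)) := by
    rw [← h2]
    rfl
  rw [GammaZ.unit_app, homOfSec_app, one_smul] at h4
  apply res_injective_of_eq F hU''
  rw [res_res]
  have h5 : ((Scheme.Modules.pushforward j).obj (R.obj F)).presheaf.map
      (homOfLE (le_top : (⊤ : X.Opens) ≤ ⊤)).op σ = σ := by
    have : (homOfLE (le_top : (⊤ : X.Opens) ≤ ⊤)).op = 𝟙 _ := Subsingleton.elim _ _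
    rw [this, CategoryTheory.Functor.map_id]
    rfl
  rw [h5] at h4
  exact h4

end Groth.Agent.Lib.Helper5.FlasqueQC
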